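/-
Quadratic extensions of finite fields given by cardinalities: existence of the embedding and a pair of trace-dual bases.
-/
import Mathlib

set_option autoImplicit false

namespace Cfsg.Agent.Lib.FieldDescent

/-- A field with `q ^ r` elements contains a field with `q` elements. -/
theorem exists_ringHom_of_card_eq_pow {K F : Type*} [Field K] [Fintype K] [Field F] [Fintype F]
    {r : ℕ} (h : Fintype.card K = Fintype.card F ^ r) : Nonempty (F →+* K) := by
  obtain ⟨n, hp, hn⟩ := FiniteField.card F (ringChar F)
  haveI := Fact.mk hp
  haveI : CharP K (ringChar F) :=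
    charP_of_card_eq_prime_pow (p := ringChar F) (f := n * r) (by rw [h, hn, ← pow_mul])
  letI : Algebra (ZMod (ringChar F)) F := ZMod.algebra _ _
  letI : Algebra (ZMod (ringChar F)) K := ZMod.algebra _ _
  have hF := FiniteField.pow_finrank_eq_card (ringChar F) F
  have hK := FiniteField.pow_finrank_eq_card (ringChar F) K
  rw [hn] at hF
  rw [h, hn, ← pow_mul] at hK
  have e1 := Nat.pow_right_injective hp.two_le hF
  have e2 := Nat.pow_right_injective hp.two_le hK
  obtain ⟨f⟩ := FiniteField.nonempty_algHom_of_finrank_dvd
    (F := ZMod (ringChar F)) (K := F) (L := K) (by rw [e1, e2]; exact dvd_mul_right _ _)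
  exact ⟨f.toRingHom⟩

theorem finrank_of_card_eq_pow {K F : Type*} [Field K] [Fintype K] [Field F] [Fintype F]
    [Algebra F K] {r : ℕ} (h : Fintype.card K = Fintype.card F ^ r) : Module.finrank F K = r := by
  haveI : Module.Finite F K := Module.Finite.of_finite
  rw [Module.card_eq_pow_finrank (K := F)] at h
  exact Nat.pow_right_injective Fintype.one_lt_card h

/-- A basis and its trace-dual basis. -/
theorem exists_trace_dual_bases {K F : Type*} [Field K] [Fintype K] [Field F] [Fintype F]
    [Algebra F K] {r : ℕ} (h : Fintype.card K = Fintype.card F ^ r) :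
    ∃ e f : Module.Basis (Fin r) F K, ∀ i j,
      Algebra.trace F K (e i * f j) = if i = j then 1 else 0 := by
  haveI : Module.Finite F K := Module.Finite.of_finite
  let e : Module.Basis (Fin r) F K := Module.finBasisOfFinrankEq F K (finrank_of_card_eq_pow h)
  refine ⟨e, (Algebra.traceForm F K).dualBasis (traceForm_nondegenerate F K) e, fun i j => ?_⟩
  rw [mul_comm, ← Algebra.traceForm_apply, LinearMap.BilinForm.apply_dualBasis_left]

end Cfsg.Agent.Lib.FieldDescent
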